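import Mathlib
set_option linter.all false

/-!
# S4191: p-parts of p-regular class sizes.  Common definitions (helper527)

Plan: `tools/plans/S4191.md`.

* `FH t G` : Fitting height at most `t`;
* `PEl p y` : `y` is a `p`-element;
* `LP p L` : `L` is a normal `p`-complement of the ambient group;
* `Gd p t L v` : good vectors: for every `p`-element `y` fixing `v` the group `[L, y]` has Fitting height at most `t`;
* `Orbs H k Q` : at least `k` orbits of points with property `Q`;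
* `Imp H W` : nontrivial system of imprimitivity (as helper822's `Imprim`);
* `Core`, `CorePrim` : the main theorem on linear groups and its primitive case;
* `Col`, `ColB` : colourings of primitive solvable permutation groups;
* `Rat` : large orbits of `p`-groups; `Lin` : the linear theorem; `Lev` : the theorem for solvable `R`.
-/

set_option autoImplicit false

namespace Cfsg.Agent.H527.RC

open scoped Pointwise commutatorElement

universe u

/-- Fitting height at most `t`. -/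
def FH : ℕ → ∀ (G : Type u) [Group G], Prop
  | 0, G, _ => Subsingleton G
  | t + 1, G, _ => ∃ (N : Subgroup G) (_ : N.Normal), Group.IsNilpotent N ∧ FH t (G ⧸ N)

/-- `y` is a `p`-element. -/
def PEl (p : ℕ) {G : Type*} [Group G] (y : G) : Prop := ∃ k : ℕ, y ^ p ^ k = 1

/-- `L` is a normal `p`-complement. -/
structure LP (p : ℕ) {H : Type*} [Group H] (L : Subgroup H) : Prop where
  normal : L.Normal
  cop : ¬ p ∣ Nat.card L
  isP : ∀ h : H, ∃ k : ℕ, h ^ p ^ k ∈ L

/-- Good points: every `p`-element `y` fixing `v` acts on `L` in a simple way. -/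
def Gd (p t : ℕ) {H : Type u} {V : Type*} [Group H] [MulAction H V] (L : Subgroup H) (v : V) : Prop :=
  ∀ y : H, PEl p y → y • v = v → FH t (⁅L, Subgroup.zpowers y⁆ : Subgroup H)

/-- At least `k` orbits of points with the property `Q`. -/
def Orbs (H : Type*) {V : Type*} [Group H] [MulAction H V] (k : ℕ) (Q : V → Prop) : Prop :=
  ∃ f : Fin k → V, (∀ i, Q (f i)) ∧ ∀ i j, ∀ h : H, h • f i = f j → i = j

/-- A system of imprimitivity with at least two blocks (same as `Cfsg.Agent.H822.Cls.Imprim`). -/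
def Imp (L U : Type*) [Group L] [AddCommGroup U] [DistribMulAction L U] : Prop :=
  ∃ 𝒟 : Set (AddSubgroup U), 𝒟.Finite ∧ 2 ≤ 𝒟.ncard ∧ (∀ D ∈ 𝒟, D ≠ ⊥) ∧ (∀ g : L, ∀ D ∈ 𝒟, g • D ∈ 𝒟) ∧
    sSupIndep 𝒟 ∧ sSup 𝒟 = ⊤

/-- **Main theorem on linear groups** `H = L P`, `W` an irreducible `L`-module: `L` has Fitting height at most `m` or there
are at least `k` orbits of good vectors.
To prove: `Core p 1 0 2` (`p ≥ 5`), `Core 3 4 2 3`, `Core 2 3 2 4`. -/
def Core (p t m k : ℕ) : Prop :=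
  ∀ (H W : Type u) [Group H] [Finite H] [Group.IsSolvable H] [AddCommGroup W] [Finite W] [Nontrivial W]
    [DistribMulAction H W] (L : Subgroup H) (r : ℕ), LP p L → r.Prime → r ≠ p → (∀ w : W, r • w = 0) →
    (∀ h : H, (∀ w : W, h • w = w) → h = 1) →
    (∀ X : AddSubgroup W, (∀ g ∈ L, ∀ w ∈ X, g • w ∈ X) → X = ⊥ ∨ X = ⊤) →
    FH m L ∨ Orbs H k (Gd (V := W) p t L)

/-- the primitive case of `Core` -/
def CorePrim (p t m k : ℕ) : Prop :=
  ∀ (H W : Type u) [Group H] [Finite H] [Group.IsSolvable H] [AddCommGroup W] [Finite W] [Nontrivial W]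
    [DistribMulAction H W] (L : Subgroup H) (r : ℕ), LP p L → r.Prime → r ≠ p → (∀ w : W, r • w = 0) →
    (∀ h : H, (∀ w : W, h • w = w) → h = 1) →
    (∀ X : AddSubgroup W, (∀ g ∈ L, ∀ w ∈ X, g • w ∈ X) → X = ⊥ ∨ X = ⊤) → ¬ Imp H W →
    FH m L ∨ Orbs H k (Gd (V := W) p t L)

/-- A colouring preserved by no `p`-element acting nontrivially. -/
def Rig (p : ℕ) (H : Type*) {Δ : Type*} [Group H] [MulAction H Δ] {C : Type*} (κ : Δ → C) : Prop :=
  ∀ y : H, PEl p y → (∀ δ, κ (y • δ) = κ δ) → ∀ δ : Δ, y • δ = δ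

/-- Colourings with `k` colours of solvable primitive permutation groups of degree prime to `p`.
To prove: `Col p 2` (`p ≥ 5`), `Col 3 3`, `Col 2 4`. -/
def Col (p k : ℕ) : Prop :=
  ∀ (H Δ : Type u) [Group H] [Finite H] [Group.IsSolvable H] [MulAction H Δ] [Finite Δ] [Nontrivial Δ],
    MulAction.IsPreprimitive H Δ → ¬ p ∣ Nat.card Δ →
    ∃ κ : Δ → Fin k, Rig p H κ ∧ ∃ i j, Nat.card {δ // κ δ = i} ≠ Nat.card {δ // κ δ = j}

/-- Two colours suffice when some `p`-element acts in a complicated way: `k` rigid subsets of different sizes.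
To prove: `ColB 3 2 3`, `ColB 2 1 4`. -/
def ColB (p a k : ℕ) : Prop :=
  ∀ (H Δ : Type u) [Group H] [Finite H] [Group.IsSolvable H] [MulAction H Δ] [FaithfulSMul H Δ] [Finite Δ]
    [Nontrivial Δ] (L : Subgroup H), MulAction.IsPreprimitive H Δ → LP p L → ¬ p ∣ Nat.card Δ →
    (∃ y : H, PEl p y ∧ ¬ FH a (⁅L, Subgroup.zpowers y⁆ : Subgroup H)) →
    ∃ Γ : Fin k → Set Δ, (∀ i, Rig p H (fun δ => δ ∈ Γ i)) ∧ ∀ i j, (Γ i).ncard = (Γ j).ncard → i = j

/-- Large orbits of `p`-groups: `b ν(C_P(v)) ≤ a ν(P)` for some `v`.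
To prove: `Rat 2 7 15`, `Rat 3 1 3`, `Rat 5 0 1`, `Rat p 1 7` (`p ≥ 7`). -/
def Rat (p a b : ℕ) : Prop :=
  ∀ (P V : Type u) [Group P] [Finite P] [AddCommGroup V] [Finite V] [DistribMulAction P V], IsPGroup p P →
    ¬ p ∣ Nat.card V → (∀ g : P, (∀ v : V, g • v = v) → g = 1) →
    ∃ v : V, b * (Nat.card (MulAction.stabilizer P v)).factorization p ≤ a * (Nat.card P).factorization p

/-- **The linear theorem** for completely reducible modules.
To prove: `Lin p 1 2 7` (`p ≥ 7`), `Lin 5 1 1 4`, `Lin 3 4 1 1`, `Lin 2 3 7 15`. -/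
def Lin (p t a b : ℕ) : Prop :=
  ∀ (H V : Type u) [Group H] [Finite H] [Group.IsSolvable H] [AddCommGroup V] [Finite V] [DistribMulAction H V]
    (L B : Subgroup H), LP p L → ¬ p ∣ Nat.card V → (∀ h : H, (∀ v : V, h • v = v) → h = 1) →
    (∀ X : AddSubgroup V, (∀ h : H, ∀ x ∈ X, h • x ∈ X) →
      ∃ Y : AddSubgroup V, (∀ h : H, ∀ y ∈ Y, h • y ∈ Y) ∧ X ⊓ Y = ⊥ ∧ X ⊔ Y = ⊤) →
    B.Normal → IsPGroup p B → (∀ x ∈ B, ∀ y ∈ L, x * y = y * x) →
    ∃ v : V, Gd p t L v ∧
      b * (Nat.card (MulAction.stabilizer B v)).factorization p ≤ a * (Nat.card B).factorization p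

/-- **Solvable `R`**: `G = R P`, `P` acting faithfully on the solvable `p'`-group `R`, `e` a bound for the exponents of the
`p`-parts of the class sizes of elements of `R`.
To prove: `Lev 2 2 15`, `Lev 3 2 17`, `Lev 5 3 7`, `Lev p 30 77` (`p ≥ 7`). -/
def Lev (p a b : ℕ) : Prop :=
  ∀ (G : Type u) [Group G] [Finite G] (R : Subgroup G) (e : ℕ), LP p R → Group.IsSolvable R →
    (∀ g : G, PEl p g → (∀ x ∈ R, g * x = x * g) → g = 1) →
    (∀ x ∈ R, (Subgroup.centralizer ({x} : Set G)).index.factorization p ≤ e) →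
    a * (Nat.card G).factorization p ≤ b * e

end Cfsg.Agent.H527.RC
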